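import Cfsg.Agent.H610.GLB.Prod

/-!
# S4536-D4F2: combinatorics of labels (one step of the chain)

* `totW_step`: lowering one hook over `δ`: the total weight drops by one;
* `exists_of_totW_pos`;
* `SF_step`: the strong stabiliser survives.
-/

set_option autoImplicit false

namespace Cfsg.Agent.H688.D4

open Cfsg.Agent.H614 Cfsg.Agent.H577.GLB.Std Cfsg.Agent.H610.GLB

variable {Q : ℤ} {M : ℕ} [NeZero M] {p : ℕ}

theorem t_same {m n : ℕ} (t : LabZ Q M m n) {δ c : ZMod M} (h : SameZ Q M δ c) : t.t c = t.t δ := by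
  obtain ⟨j, rfl⟩ := h
  exact orb_pow t.orb j δ

theorem eD_same (hQ : IsUnit (Q : ZMod M)) {δ c : ZMod M} (h : SameZ Q M δ c) : eD Q M p c = eD Q M p δ := by
  obtain ⟨j, rfl⟩ := h
  exact eD_mul hQ j δ

theorem canon_same {δ c : ZMod M} (hQ : IsUnit (Q : ZMod M)) (h : SameZ Q M δ c) : canon Q M c = canon Q M δ := by
  obtain ⟨j, rfl⟩ := h
  exact canon_congr hQ j δ

/-- lowering one hook over `δ`: the total weight drops by one -/
theorem totW_step (_hp : p.Prime) (hQ : IsUnit (Q : ZMod M)) (_hQp : IsUnit (Q : ZMod p)) {m n l : ℕ}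
    (t : LabZ Q M m n) (t₁ : LabZ Q M m l) (δ : ZMod M) (hδ : PReg M p δ)
    (h₁ : ∀ δ', ¬ SameZ Q M δ δ' → t₁.t δ' = t.t δ')
    (hew : ewt (eD Q M p δ) (t₁.t δ) + 1 = ewt (eD Q M p δ) (t.t δ)) :
    totW Q M p t₁.t + 1 = totW Q M p t.t := by
  classical
  unfold totW
  obtain ⟨j, hj⟩ := canon_spec (Q := Q) δ
  have hs : SameZ Q M δ (canon Q M δ) := ⟨j, hj⟩
  have hmem : canon Q M δ ∈ Finset.univ.filter (fun c : ZMod M => canon Q M c = c ∧ PReg M p c) := by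
    rw [Finset.mem_filter]
    refine ⟨Finset.mem_univ _, canon_canon hQ δ, ?_⟩
    rw [hj]
    exact pReg_mul _ hδ
  rw [← Finset.add_sum_erase _ _ hmem, ← Finset.add_sum_erase _ _ hmem, eD_same hQ hs, t_same t₁ hs, t_same t hs,
    ← hew]
  have hrest : ∑ x ∈ (Finset.univ.filter (fun c : ZMod M => canon Q M c = c ∧ PReg M p c)).erase (canon Q M δ),
      ewt (eD Q M p x) (t₁.t x) =
      ∑ x ∈ (Finset.univ.filter (fun c : ZMod M => canon Q M c = c ∧ PReg M p c)).erase (canon Q M δ),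
      ewt (eD Q M p x) (t.t x) := by
    refine Finset.sum_congr rfl fun c hc => ?_
    rw [Finset.mem_erase, Finset.mem_filter] at hc
    rw [h₁ c fun h => hc.1 (hc.2.2.1.symm.trans (canon_same hQ h))]
  rw [hrest]
  ring

theorem exists_of_totW_pos {m n : ℕ} (t : LabZ Q M m n) (h : 0 < totW Q M p t.t) :
    ∃ δ : ZMod M, PReg M p δ ∧ 0 < ewt (eD Q M p δ) (t.t δ) := by
  classical
  by_contra hne
  push Not at hne
  refine h.ne' ?_
  unfold totW
  refine Finset.sum_eq_zero fun c hc => ?_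
  exact Nat.le_zero.1 (hne c (Finset.mem_filter.1 hc).2.2)

/-- equal sizes and colours give equal weights -/
theorem ewt_eq {e m : ℕ} (he : 0 < e) {β γ : Fin m → ℕ} (hβ : StrictMono β) (hγ : StrictMono γ)
    (h : bsz β = bsz γ) (hc : SameCol e β γ) : ewt e β = ewt e γ := by
  unfold ewt
  rw [ewt_congr he hβ hγ h hc, npairs_of_sameCol hc]

/-- the strong stabiliser survives -/
theorem SF_step (hp : p.Prime) (hQ : IsUnit (Q : ZMod M)) (hQp : IsUnit (Q : ZMod p)) {m n l : ℕ} (_hmn : n ≤ m)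
    (_hml : l ≤ m) (t : LabZ Q M m n) (ht : POnly M p t.t) (t₁ t₂ : LabZ Q M m l) (ht₁ : POnly M p t₁.t)
    (ht₂ : POnly M p t₂.t) (δ : ZMod M) (hδ : PReg M p δ) (hw : 0 < ewt (eD Q M p δ) (t.t δ))
    (h₁ : ∀ δ', ¬ SameZ Q M δ δ' → t₁.t δ' = t.t δ') (_hcol : SameCol (eD Q M p δ) (t₁.t δ) (t.t δ))
    (_hew : ewt (eD Q M p δ) (t₁.t δ) + 1 = ewt (eD Q M p δ) (t.t δ))
    (h₂ : SameFam Q M p t₁.t t₂.t) {a : ZMod M} (ha : SF Q M p t a) : SF Q M p t₂ a := by
  obtain ⟨hst, hfix⟩ := ha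
  obtain ⟨hQa, hpa, hfam⟩ := (stab_iff ht).1 hst
  have h12 := (sameFam_iff ht₁ ht₂).1 h₂
  obtain ⟨j, hj⟩ := hfix δ hδ hw
  -- translation by `a` preserves the orbit of `δ`
  have hadd : ∀ x, SameZ Q M δ x → SameZ Q M δ (x + a) := by
    rintro x ⟨i, rfl⟩
    refine ⟨i + orderOf (Q : ZMod p) * j, ?_⟩
    have h3 : (Q : ZMod M) ^ i * a = a := pow_fix hQa i
    rw [pow_add, pow_mul, mul_assoc, ← hj, mul_add, h3]
  have hadd' : ∀ (k : ℕ) (x), SameZ Q M δ x → SameZ Q M δ (x + k • a) := by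
    intro k
    induction k with
    | zero => intro x hx; simpa using hx
    | succ k ih =>
      intro x hx
      rw [succ_nsmul, ← add_assoc]
      exact hadd _ (ih x hx)
  have hsub : ∀ x, SameZ Q M δ x → SameZ Q M δ (x - a) := by
    intro x hx
    have h3 := hadd' (addOrderOf a - 1) x hx
    have h4 : (addOrderOf a - 1) • a = -a := by
      have h5 : 0 < addOrderOf a := addOrderOf_pos a
      have h6 : (addOrderOf a - 1) • a + a = 0 := by
        rw [← succ_nsmul, Nat.sub_add_cancel h5, addOrderOf_nsmul_eq_zero]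
      exact eq_neg_of_add_eq_zero_left h6
    rw [h4, ← sub_eq_add_neg] at h3
    exact h3
  -- the statement for `t₁`
  have key : ∀ δ', PReg M p δ' → bsz (t₁.t δ') = bsz (t₁.t (δ' - a)) ∧
      SameCol (eD Q M p δ') (t₁.t δ') (t₁.t (δ' - a)) := by
    intro δ' hδ'
    by_cases hs : SameZ Q M δ δ'
    · rw [t_same t₁ hs, t_same t₁ (hsub _ hs)]
      exact ⟨rfl, SameCol.refl _ _⟩
    · have hs' : ¬ SameZ Q M δ (δ' - a) := fun h => hs (by have := hadd _ h; rwa [sub_add_cancel] at this)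
      rw [h₁ _ hs, h₁ _ hs']
      exact hfam δ' hδ'
  refine ⟨(stab_iff ht₂).2 ⟨hQa, hpa, fun δ' hδ' => ?_⟩, fun δ' hδ' hw' => ?_⟩
  · obtain ⟨b1, c1⟩ := key δ' hδ'
    obtain ⟨b2, c2⟩ := h12 δ' hδ'
    obtain ⟨b3, c3⟩ := h12 (δ' - a) (pReg_sub hδ' hpa)
    rw [eD_sub hQa] at c3
    exact ⟨b2.symm.trans (b1.trans b3), c2.symm.trans (c1.trans c3)⟩
  · obtain ⟨b2, c2⟩ := h12 δ' hδ'
    have he := ewt_eq (eD_pos hQp hp δ') (t₁.mono δ') (t₂.mono δ') b2 c2
    rw [← he] at hw'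
    by_cases hs : SameZ Q M δ δ'
    · refine hfix δ' hδ' ?_
      rw [t_same t hs, eD_same hQ hs]
      exact hw
    · rw [h₁ _ hs] at hw'
      exact hfix δ' hδ' hw'

end Cfsg.Agent.H688.D4
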